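import Groth.Agent.S5005
import Groth.Agent.S9370
import Groth.Agent.Lib.PPGen.OmegaGen2

/-!
# The relative cotangent sequence of two morphisms
-/

set_option autoImplicit false
set_option linter.all false
set_option backward.isDefEq.respectTransparency false
set_option maxHeartbeats 1000000

universe u

open CategoryTheory CategoryTheory.Limits AlgebraicGeometry Opposite

noncomputable section

namespace GrothLib.RelCot16

variable {X Y S : Scheme.{u}} (f : X ⟶ Y) (g : Y ⟶ S) (p : X ⟶ S) (w : f ≫ g = p)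
  [QuasiSeparated f] [QuasiSeparated g] [QuasiSeparated p]

include w in
/-- A derivation relative to `Y` is one relative to `S`. -/
def compDer {F : X.Modules} (D : OmegaSh.Der f F) : OmegaSh.Der p F where
  d {U} := D.d
  d_mul := D.d_mul
  d_map := D.d_map
  d_app {V} s := by
    subst w
    show D.app (f ⁻¹ᵁ (g ⁻¹ᵁ V.unop)) (f.app (g ⁻¹ᵁ V.unop) (g.app V.unop s)) = 0
    exact D.d_app (X := op (g ⁻¹ᵁ V.unop)) (g.app V.unop s)

include w in
/-- `Ω_{X/Y}` is the cokernel of `f^* Ω_{Y/S} ⟶ Ω_{X/S}`. -/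
theorem nonempty_cokernel_iso (c : (Scheme.Modules.pullback f).obj (Omega.sheaf g) ⟶ Omega.sheaf p)
    (hc : OmegaSh.IsDiffCompat f (OmegaSh.dOmega g) (OmegaSh.dOmega p) c) :
    Nonempty (cokernel c ≅ Omega.sheaf f) := by
  obtain ⟨α, hα, -⟩ := Groth.Agent.S5005.result p (Omega.sheaf f) (compDer f g p w (OmegaSh.dOmega f))
  have hαv : ∀ (U : X.Opens) (s : Γ(X, U)),
      α.app U ((OmegaSh.dOmega p).app U s) = (OmegaSh.dOmega f).app U s := fun U s =>
    congrArg (fun D : OmegaSh.Der p (Omega.sheaf f) => D.app U s) hα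
  let adj := Scheme.Modules.pullbackPushforwardAdjunction f
  have hcα : c ≫ α = 0 := by
    refine (adj.homEquiv _ _).injective (PPGen.hom_ext_dOmega g _ _ fun U s => ?_)
    rw [adj.homEquiv_unit, adj.homEquiv_unit]
    show α.app (f ⁻¹ᵁ U) (c.app (f ⁻¹ᵁ U) (OmegaSh.pullSect f (Omega.sheaf g) U ((OmegaSh.dOmega g).app U s))) = 0
    rw [hc U s, hαv]
    exact (OmegaSh.dOmega f).d_app (X := op U) s
  let π := cokernel.π c
  let D : OmegaSh.Der f (cokernel c) :=
    { d := fun {U} => (π.app U.unop).hom.comp ((OmegaSh.dOmega p).app U.unop)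
      d_mul := fun {U} a b => ((OmegaSh.dOmega p).postcomp π.val).d_mul a b
      d_map := fun {U V} h x => ((OmegaSh.dOmega p).postcomp π.val).d_map h x
      d_app := fun {V} s => by
        show π.app (f ⁻¹ᵁ V.unop) ((OmegaSh.dOmega p).app (f ⁻¹ᵁ V.unop) (f.app V.unop s)) = 0
        rw [← hc V.unop s]
        exact congrArg (fun φ : (Scheme.Modules.pullback f).obj (Omega.sheaf g) ⟶ cokernel c =>
          φ.app (f ⁻¹ᵁ V.unop) (OmegaSh.pullSect f (Omega.sheaf g) V.unop ((OmegaSh.dOmega g).app V.unop s)))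
          (cokernel.condition c) }
  obtain ⟨β, hβ, -⟩ := Groth.Agent.S5005.result f (cokernel c) D
  have hβv : ∀ (U : X.Opens) (s : Γ(X, U)),
      β.app U ((OmegaSh.dOmega f).app U s) = π.app U ((OmegaSh.dOmega p).app U s) := fun U s =>
    congrArg (fun D' : OmegaSh.Der f (cokernel c) => D'.app U s) hβ
  refine ⟨{ hom := cokernel.desc c α hcα, inv := β, hom_inv_id := ?_, inv_hom_id := ?_ }⟩
  · rw [← cancel_epi (cokernel.π c), cokernel.π_desc_assoc, Category.comp_id]
    refine PPGen.hom_ext_dOmega p _ _ fun U s => ?_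
    show β.app U (α.app U ((OmegaSh.dOmega p).app U s)) = π.app U ((OmegaSh.dOmega p).app U s)
    rw [hαv, hβv]
  · refine PPGen.hom_ext_dOmega f _ _ fun U s => ?_
    show (cokernel.desc c α hcα).app U (β.app U ((OmegaSh.dOmega f).app U s)) = (OmegaSh.dOmega f).app U s
    rw [hβv]
    exact (congrArg (fun φ : Omega.sheaf p ⟶ Omega.sheaf f => φ.app U ((OmegaSh.dOmega p).app U s))
      (cokernel.π_desc c α hcα)).trans (hαv U s)

end GrothLib.RelCot16
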