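import Groth.Agent.Lib.RelCot16.Basic
import Groth.Agent.S14833
import Groth.Agent.S7640
import Groth.Agent.Lib.CurveMult.OmegaApp
import Groth.Agent.Lib.CurveMult.OmegaField
import Groth.Agent.Lib.SubCurve16.Stalk

/-!
# The cotangent sequence of a separable map of curves
-/

set_option autoImplicit false
set_option linter.all false
set_option backward.isDefEq.respectTransparency false
set_option maxHeartbeats 1000000

universe u

open CategoryTheory CategoryTheory.Limits AlgebraicGeometry

noncomputable section

namespace GrothLib.RelCot16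

variable (k : Type u) [Field k] [IsAlgClosed k] {X Y : Scheme.{u}}
  [X.Over (Spec (CommRingCat.of k))] [Y.Over (Spec (CommRingCat.of k))]
  [IsIntegral X] [IsProper (X ↘ Spec (CommRingCat.of k))]
  [IsIntegral Y] [IsProper (Y ↘ Spec (CommRingCat.of k))]

theorem genericPoint_mem_smoothLocus (f : X ⟶ Y) [LocallyOfFinitePresentation f]
    (e : f (genericPoint X) = genericPoint Y)
    (hsep : letI := ((Y.presheaf.stalkSpecializes (specializes_of_eq e) ≫ f.stalkMap (genericPoint X)).hom).toAlgebra
      Algebra.IsSeparable Y.functionField X.functionField) :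
    genericPoint X ∈ f.smoothLocus := by
  letI := ((Y.presheaf.stalkSpecializes (specializes_of_eq e) ≫ f.stalkMap (genericPoint X)).hom).toAlgebra
  haveI := hsep
  haveI : Algebra.FormallyEtale Y.functionField X.functionField := Algebra.FormallyEtale.of_isSeparable _ _
  refine Scheme.Hom.mem_smoothLocus.2 ?_
  haveI : IsIso (Y.presheaf.stalkSpecializes (specializes_of_eq e.symm)) := by
    refine ⟨Y.presheaf.stalkSpecializes (specializes_of_eq e), ?_, ?_⟩ <;>
      simp [TopCat.Presheaf.stalkSpecializes_comp, TopCat.Presheaf.stalkSpecializes_refl]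
  have h1 : (Y.presheaf.stalkSpecializes (specializes_of_eq e.symm)).hom.FormallySmooth :=
    RingHom.FormallySmooth.of_bijective (ConcreteCategory.bijective_of_isIso (Y.presheaf.stalkSpecializes (specializes_of_eq e.symm)))
  have h2 : (algebraMap Y.functionField X.functionField).FormallySmooth := RingHom.formallySmooth_algebraMap.2 inferInstance
  have h := h1.comp h2
  have heq : (algebraMap Y.functionField X.functionField).comp
      (Y.presheaf.stalkSpecializes (specializes_of_eq e.symm)).hom = (f.stalkMap (genericPoint X)).hom := by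
    show (Y.presheaf.stalkSpecializes (specializes_of_eq e.symm) ≫
      (Y.presheaf.stalkSpecializes (specializes_of_eq e) ≫ f.stalkMap (genericPoint X))).hom = _
    rw [← Category.assoc, TopCat.Presheaf.stalkSpecializes_comp, TopCat.Presheaf.stalkSpecializes_refl, Category.id_comp]
  rwa [heq] at h

variable (hdX : topologicalKrullDim X = 1) (hrX : ∀ x : X, IsRegularLocalRing (X.presheaf.stalk x))
  (hdY : topologicalKrullDim Y = 1) (hrY : ∀ x : Y, IsRegularLocalRing (Y.presheaf.stalk x))

include hdX hrX in
theorem omega_facts : PicF.IsInvertible (Omega.sheaf (X ↘ Spec (CommRingCat.of k))) ∧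
    Curv2.deg k X (Omega.sheaf (X ↘ Spec (CommRingCat.of k))) 1 = 2 * (Curv2.genus k X : ℤ) - 2 := by
  haveI := Rigidity.smooth_of_isRegular (X ↘ Spec (CommRingCat.of k)) hrX
  haveI := CurveRR.regCurve_of_smooth (X ↘ Spec (CommRingCat.of k)) hdX
  exact ⟨CurveMult.OmegaField.isInvertible k,
    (CurveMult.OmegaField.finrank_deg_omega k hdX (CurveRR.finrank_H0_structure_eq_one k)).2⟩

include hdX hrX hdY hrY in
/-- The cotangent sequence of a separable finite map of curves, with torsion cokernel. -/
theorem exists_seq (f : X ⟶ Y) [IsFinite f]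
    (hf : f ≫ (Y ↘ Spec (CommRingCat.of k)) = X ↘ Spec (CommRingCat.of k))
    (e : f (genericPoint X) = genericPoint Y)
    (hsep : letI := ((Y.presheaf.stalkSpecializes (specializes_of_eq e) ≫ f.stalkMap (genericPoint X)).hom).toAlgebra
      Algebra.IsSeparable Y.functionField X.functionField) :
    ∃ (c : (Scheme.Modules.pullback f).obj (Omega.sheaf (Y ↘ Spec (CommRingCat.of k))) ⟶
        Omega.sheaf (X ↘ Spec (CommRingCat.of k))),
      Mono c ∧ Nonempty (cokernel c ≅ Omega.sheaf f) ∧
      Subsingleton (Coh.HH X (cokernel c) 1) ∧ genericPoint X ∉ CohB1.support (cokernel c) := by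
  haveI := Euler.isNoetherian_of_proper (X := X) k
  haveI := Euler.isNoetherian_of_proper (X := Y) k
  haveI := Rigidity.smooth_of_isRegular (Y ↘ Spec (CommRingCat.of k)) hrY
  obtain ⟨c, hc, -⟩ := Groth.Agent.S9370.result (Y ↘ Spec (CommRingCat.of k)) (X ↘ Spec (CommRingCat.of k)) f (𝟙 _)
    (by rw [Category.comp_id, hf]) _ (OmegaSh.dOmega (Y ↘ Spec (CommRingCat.of k))) (Groth.Agent.S5005.result _)
    _ (OmegaSh.dOmega (X ↘ Spec (CommRingCat.of k))) (Groth.Agent.S5005.result _)
  haveI hmono : Mono c := Groth.Agent.S14833.mono_of_smooth_genericPoint' f (Y ↘ Spec (CommRingCat.of k))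
    (X ↘ Spec (CommRingCat.of k)) hf e (genericPoint_mem_smoothLocus f e hsep) _ _ (Groth.Agent.S5005.result _)
    _ _ (Groth.Agent.S5005.result _) c hc
  have hA : PicF.IsInvertible ((Scheme.Modules.pullback f).obj (Omega.sheaf (Y ↘ Spec (CommRingCat.of k)))) :=
    RelProjK.isInvertible_pullback f (omega_facts k hdY hrY).1
  have hB := (omega_facts k hdX hrX).1
  have hsurj : Function.Surjective (QCoh.stalkLin c (genericPoint X)) := by
    obtain ⟨eA⟩ := SubCurve16.nonempty_stalkEquiv hA (genericPoint X)
    obtain ⟨eB⟩ := SubCurve16.nonempty_stalkEquiv hB (genericPoint X)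
    refine SubCurve16.surjective_of_ne_zero (Field.toIsField X.functionField) eB _ (a := eA.symm 1) fun h0 => ?_
    have h1 : eA.symm 1 = 0 := QCoh.stalkLin_injective c _ (h0.trans (map_zero _).symm)
    have h2 := congrArg eA h1
    rw [LinearEquiv.apply_symm_apply, map_zero] at h2
    exact one_ne_zero (α := X.functionField) h2
  have hgen : genericPoint X ∉ CohB1.support (cokernel c) := QCoh.notMem_support_cokernel_of_surjective c hsurj
  refine ⟨c, hmono, nonempty_cokernel_iso f _ _ hf c hc, ?_, hgen⟩
  refine SubCurve16.subsingleton_H1_of_generic k hdX.le (QCoh.isCoh_cokernel c (Euler.isCoh_of_isInvertible hA)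
    (Euler.isCoh_of_isInvertible hB)) fun η hη => ?_
  rwa [← FinAff13.mem_genericPoints_iff.1 hη (genericPoint X) (genericPoint_specializes η)]

end GrothLib.RelCot16
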