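import Groth.Agent.Lib.RelCot16.Curve
import Groth.Agent.Lib.IdealMV12.Basic
import Groth.Agent.Lib.FittSheaf.Basic
import Groth.Agent.Lib.Fitting.Support
import Groth.Agent.Lib.OmegaSheaf.Basic

/-!
# Injective maps of line bundles are twists by the Fitting ideal of the cokernel
-/

set_option autoImplicit false
set_option linter.all false
set_option backward.isDefEq.respectTransparency false
set_option maxHeartbeats 1000000

universe u

open CategoryTheory CategoryTheory.Limits AlgebraicGeometry
open GrothLib.QCoh (stalkLin)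
open GrothLib.OmegaBC (sval)
open GrothLib.Euler (tF)

noncomputable section

namespace GrothLib.RelCot16

variable {X : Scheme.{u}}

theorem nonempty_iso_of_range_eq' {M N T : X.Modules} (f : M ⟶ T) (g : N ⟶ T)
    (hg : Mono g) (hf : ∀ x, Function.Injective (stalkLin f x))
    (h : ∀ x, LinearMap.range (stalkLin f x) = LinearMap.range (stalkLin g x)) : Nonempty (M ≅ N) := by
  let S : ShortComplex X.Modules := ShortComplex.mk g (cokernel.π g) (cokernel.condition g)
  have hS : S.Exact := ShortComplex.exact_of_g_is_cokernel _ (cokernelIsCokernel _)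
  haveI : Mono S.f := hg
  have hz : f ≫ cokernel.π g = 0 := by
    refine Scheme.Modules.hom_ext _ _ fun U => AddCommGrpCat.ext fun s => ?_
    refine QCoh.section_eq_zero_of_germ (cokernel g) _ fun x hx => ?_
    have e := QCoh.stalkLin_germ (f ≫ cokernel.π g) hx s
    rw [HodgeIndex.stalkLin_comp_apply] at e
    refine e.symm.trans ?_
    obtain ⟨w, hw⟩ : stalkLin f x (M.presheaf.germ U x hx s) ∈ LinearMap.range (stalkLin g x) := by
      rw [← h x]; exact LinearMap.mem_range_self _ _
    rw [← hw, ← HodgeIndex.stalkLin_comp_apply, cokernel.condition, Kodaira.stalkLin_zero_apply]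
  let l : M ⟶ N := hS.lift f hz
  have hl : l ≫ g = f := hS.lift_f f hz
  haveI : IsIso l := (OX.isIso_iff l).2 fun x => (ConcreteCategory.isIso_iff_bijective _).2 ⟨fun a b hab => hf x ?_, fun w => ?_⟩
  · exact ⟨asIso l⟩
  · have hab' : stalkLin l x a = stalkLin l x b := hab
    rw [← hl, HodgeIndex.stalkLin_comp_apply, HodgeIndex.stalkLin_comp_apply, hab']
  · obtain ⟨v, hv⟩ : stalkLin g x w ∈ LinearMap.range (stalkLin f x) := by
      rw [h x]; exact LinearMap.mem_range_self _ _
    refine ⟨v, QCoh.stalkLin_injective g x ?_⟩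
    rw [← hv, ← hl, HodgeIndex.stalkLin_comp_apply]
    rfl

theorem nonempty_tensor_fitting_iso [IsIntegral X] [IsLocallyNoetherian X] {A B : X.Modules}
    (hA : PicF.IsInvertible A) (hB : PicF.IsInvertible B) (c : A ⟶ B) [Mono c]
    (W : X.Modules) [W.IsQuasicoherent] (hW : CohB1.IsFT W) (i : cokernel c ≅ W) :
    Nonempty (CohB1.tensorMod B (ClSub.idealMod (Fitt.sheafIdeal W 0)) ≅ A) := by
  let I := Fitt.sheafIdeal W 0
  let e := Euler.tFUnitIso B
  let g : CohB1.tensorMod B (ClSub.idealMod I) ⟶ B :=
    ((DCoh.tensorBi (X := X)).obj B).map (ClSub.idealModι I) ≫ e.hom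
  have main : ∀ x : X, Function.Injective (stalkLin g x) ∧
      LinearMap.range (stalkLin g x) = LinearMap.range (stalkLin c x) := by
    intro x
    obtain ⟨eA⟩ := SubCurve16.nonempty_stalkEquiv hA x
    obtain ⟨eB⟩ := SubCurve16.nonempty_stalkEquiv hB x
    let u : X.presheaf.stalk x := eB (stalkLin c x (eA.symm 1))
    have hc : ∀ a, eB (stalkLin c x a) = eA a * u := fun a => by
      conv_lhs => rw [← eA.symm_apply_apply a, show eA.symm (eA a) = eA a • eA.symm 1 by
        rw [← map_smul, smul_eq_mul, mul_one]]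
      rw [map_smul, map_smul, smul_eq_mul]
    have hu : u ≠ 0 := fun h0 => by
      have h1 : stalkLin c x (eA.symm 1) = stalkLin c x 0 := by
        rw [map_zero]; exact eB.injective (h0.trans (map_zero _).symm)
      have h2 := congrArg eA (QCoh.stalkLin_injective c x h1)
      rw [LinearEquiv.apply_symm_apply, map_zero] at h2
      exact one_ne_zero (α := X.presheaf.stalk x) h2
    let p : B.presheaf.stalk x →ₗ[X.presheaf.stalk x] W.presheaf.stalk x := stalkLin (cokernel.π c ≫ i.hom) x
    have hp : Function.Surjective p := by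
      haveI : Epi (cokernel.π c ≫ i.hom) := inferInstance
      exact QCoh.stalkLin_surjective _ x
    have hker : ∀ b, p b = 0 ↔ ∃ a, stalkLin c x a = b := fun b => by
      constructor
      · intro hb
        have hb' : stalkLin (cokernel.π c) x b = 0 := by
          have h1 : stalkLin i.inv x (p b) = 0 := by rw [hb, map_zero]
          rw [← HodgeIndex.stalkLin_comp_apply, Category.assoc, i.hom_inv_id, Category.comp_id] at h1
          exact h1
        have hex := (OX.exact_iff (ShortComplex.mk c (cokernel.π c) (cokernel.condition c))).1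
          (ShortComplex.exact_of_g_is_cokernel _ (cokernelIsCokernel c)) x
        exact (ShortComplex.moduleCat_exact_iff _).1 hex b hb'
      · rintro ⟨a, rfl⟩
        show stalkLin (cokernel.π c ≫ i.hom) x (stalkLin c x a) = 0
        rw [← HodgeIndex.stalkLin_comp_apply, cokernel.condition_assoc, zero_comp, Kodaira.stalkLin_zero_apply]
    let q : X.presheaf.stalk x →ₗ[X.presheaf.stalk x] W.presheaf.stalk x := p.comp eB.symm.toLinearMap
    have hqk : LinearMap.ker q = Ideal.span {u} := by
      ext r
      rw [LinearMap.mem_ker, Ideal.mem_span_singleton']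
      refine (hker (eB.symm r)).trans ⟨fun ⟨a, ha⟩ => ⟨eA a, by rw [← hc, ha, eB.apply_symm_apply]⟩, fun ⟨t, ht⟩ =>
        ⟨eA.symm t, eB.injective ?_⟩⟩
      rw [hc, eA.apply_symm_apply, eB.apply_symm_apply, ht]
    have hst : Goodman.st I x = Ideal.span {u} := by
      obtain ⟨V, hV, hxV, -⟩ := exists_isAffineOpen_mem_and_subset (show x ∈ (⊤ : X.Opens) from trivial)
      rw [Goodman.st_eq _ ⟨V, hV⟩ hxV, FittSheaf.map_germ_sheafIdeal hW 0 ⟨V, hV⟩ hxV]
      haveI := FittSheaf.finite_stalk hW x
      rw [Fitting.ideal_congr ((LinearMap.quotKerEquivOfSurjective q (hp.comp eB.symm.surjective)).symm) 0,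
        Fitting.ideal_quotient_zero, hqk]
    obtain ⟨tJ, htJ⟩ : u ∈ Goodman.st I x := hst ▸ Ideal.mem_span_singleton_self u
    have hgenJ : Ref1.Gen (ClSub.idealMod I) x tJ := by
      refine ⟨fun r s hrs => ?_, fun w => ?_⟩
      · have := congrArg (sval I x) hrs
        dsimp only at this
        rw [show sval I x (r • tJ) = r * u from ((sval I x).map_smul r tJ).trans (by rw [htJ]; rfl),
          show sval I x (s • tJ) = s * u from ((sval I x).map_smul s tJ).trans (by rw [htJ]; rfl)] at this
        exact mul_right_cancel₀ hu this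
      · have hw : sval I x w ∈ Ideal.span {u} := hst ▸ LinearMap.mem_range_self _ w
        obtain ⟨t, ht⟩ := Ideal.mem_span_singleton'.1 hw
        exact ⟨t, OmegaBC.sval_injective I x (((sval I x).map_smul t tJ).trans (by rw [htJ]; exact ht))⟩
    let θ : B.presheaf.stalk x → B.presheaf.stalk x := fun v =>
      stalkLin e.hom x (Ref1.tmulStalk B (Coh.structureModule X) x v (HomSh.unitStalk x 1))
    have hθ : Function.Bijective θ := by
      refine Function.Bijective.comp ?_ (TensorGen.bijective_tmulStalk _ _ (Ref1.gen_unitStalk x))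
      exact (ConcreteCategory.isIso_iff_bijective ((OX.stalk x).map e.hom)).1 inferInstance
    have hgen : ∀ v : B.presheaf.stalk x,
        stalkLin g x (Ref1.tmulStalk B (ClSub.idealMod I) x v tJ) = u • θ v := fun v => by
      rw [show stalkLin g x (Ref1.tmulStalk B (ClSub.idealMod I) x v tJ) = _ from
          HodgeIndex.stalkLin_comp_apply (((DCoh.tensorBi (X := X)).obj B).map (ClSub.idealModι I)) e.hom x _,
        show stalkLin (((DCoh.tensorBi (X := X)).obj B).map (ClSub.idealModι I)) x (Ref1.tmulStalk _ _ x v tJ) = _ from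
          Goodman.stalkLin_tensor_tmul _ _ x v tJ,
        Goodman.stalkLin_idealModι I x tJ, htJ, show HomSh.unitStalk x u = u • HomSh.unitStalk x 1 by
          rw [← map_smul, smul_eq_mul, mul_one], map_smul, map_smul]
      rfl
    have hrange : ∀ b, b ∈ LinearMap.range (stalkLin c x) ↔ ∃ b', b = u • b' := fun b => by
      constructor
      · rintro ⟨a, rfl⟩
        exact ⟨eB.symm (eA a), eB.injective (by
          rw [hc, map_smul, eB.apply_symm_apply, smul_eq_mul, mul_comm])⟩
      · rintro ⟨b', rfl⟩
        exact ⟨eA.symm (eB b'), eB.injective (by rw [hc, eA.apply_symm_apply, map_smul, smul_eq_mul, mul_comm])⟩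
    constructor
    · intro s t hst'
      obtain ⟨v, rfl⟩ := (TensorGen.bijective_tmulStalk _ _ hgenJ).2 s
      obtain ⟨v', rfl⟩ := (TensorGen.bijective_tmulStalk _ _ hgenJ).2 t
      dsimp only at hst' ⊢
      rw [hgen, hgen] at hst'
      have h2 := congrArg eB hst'
      rw [map_smul, map_smul, smul_eq_mul, smul_eq_mul] at h2
      rw [hθ.1 (eB.injective (mul_left_cancel₀ hu h2))]
    · ext b
      rw [hrange]
      constructor
      · rintro ⟨s, rfl⟩
        obtain ⟨v, rfl⟩ := (TensorGen.bijective_tmulStalk _ _ hgenJ).2 s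
        exact ⟨θ v, hgen v⟩
      · rintro ⟨b', rfl⟩
        obtain ⟨v, rfl⟩ := hθ.2 b'
        exact ⟨_, hgen v⟩
  exact nonempty_iso_of_range_eq' g c ‹_› (fun x => (main x).1) fun x => (main x).2

end GrothLib.RelCot16
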